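import Groth.Agent.L22.UnivEquidim.Basic
import Groth.Agent.L22.FibreCodim
import Groth.Agent.L23.FibreDimComp
import Groth.Agent.S2768
import Groth.Agent.L16.ProjSpace.Basic
import Mathlib.CategoryTheory.Limits.Shapes.WidePullbacks
import Mathlib.AlgebraicGeometry.ZariskisMainTheorem

/-!
Fibres of fibre powers of the projective line.
-/

set_option autoImplicit false
set_option linter.style.haveILetI false
set_option backward.isDefEq.respectTransparency false
set_option backward.isDefEq.respectTransparency.types false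

universe u

open CategoryTheory CategoryTheory.Limits AlgebraicGeometry TopologicalSpace Topology IsLocalRing
open Groth.L22.UnivEquidim

noncomputable section

namespace Groth.L22.WidePow

abbrev Pw (X : Scheme.{u}) (n : ℕ) : Scheme.{u} :=
  widePullback X (fun _ : Fin n => CohB1.ProjSpaceOver 1 X) (fun _ => CohB1.ProjSpaceOver.toBase 1 X)

abbrev bs (X : Scheme.{u}) (n : ℕ) : Pw X n ⟶ X :=
  WidePullback.base (fun _ : Fin n => CohB1.ProjSpaceOver.toBase 1 X)

variable (X : Scheme.{u})

/-- Splitting off one factor. -/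
def split (n : ℕ) : Pw X (n + 1) ≅ pullback (bs X n) (CohB1.ProjSpaceOver.toBase 1 X) where
  hom := pullback.lift (WidePullback.lift (bs X (n + 1)) (fun j => WidePullback.π _ j.succ) (fun j => WidePullback.π_arrow _ _))
    (WidePullback.π _ 0) (by rw [WidePullback.lift_base, WidePullback.π_arrow])
  inv := WidePullback.lift (pullback.fst _ _ ≫ bs X n)
    (Fin.cases (pullback.snd _ _) fun j => pullback.fst _ _ ≫ WidePullback.π _ j) (fun j => by
      cases j using Fin.cases with
      | zero => simpa using pullback.condition.symm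
      | succ i => simp)
  hom_inv_id := by
    refine WidePullback.hom_ext _ _ _ (fun j => ?_) ?_
    · cases j using Fin.cases <;> simp
    · simp
  inv_hom_id := by
    refine pullback.hom_ext (WidePullback.hom_ext _ _ _ (fun j => ?_) ?_) ?_ <;> simp

theorem split_comp (n : ℕ) : (split X n).hom ≫ pullback.fst _ _ ≫ bs X n = bs X (n + 1) := by
  simp [split]

theorem lft_bs : ∀ n, LocallyOfFiniteType (bs X n)
  | 0 => by
    haveI : IsIso (bs X 0) := ⟨WidePullback.lift (𝟙 X) Fin.elim0 (fun j => j.elim0),
      WidePullback.hom_ext _ _ _ (fun j => j.elim0) (by simp), by simp⟩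
    infer_instance
  | n + 1 => by
    haveI := lft_bs n
    rw [← split_comp X n]
    infer_instance

theorem proper_bs : ∀ n, IsProper (bs X n)
  | 0 => by
    haveI : IsIso (bs X 0) := ⟨WidePullback.lift (𝟙 X) Fin.elim0 (fun j => j.elim0),
      WidePullback.hom_ext _ _ _ (fun j => j.elim0) (by simp), by simp⟩
    infer_instance
  | n + 1 => by
    haveI := proper_bs n
    haveI : IsProper (CohB1.ProjSpaceOver.toBase 1 X) :=
      MorphismProperty.pullback_snd (P := @IsProper) _ _ (Groth.L16.ProjSpace.isProper_toSpec (n := 1) _)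
    rw [← split_comp X n]
    infer_instance

theorem fibreDimAt_le : ∀ (n : ℕ) (w : Pw X n), FlatMor.fibreDimAt (bs X n) w ≤ (n : ℕ)
  | 0, w => by
    haveI : IsIso (bs X 0) := ⟨WidePullback.lift (𝟙 X) Fin.elim0 (fun j => j.elim0),
      WidePullback.hom_ext _ _ _ (fun j => j.elim0) (by simp), by simp⟩
    exact_mod_cast Groth.L22.FibreCodim.fibreDimAt_le_zero_of_quasiFiniteAt _ w ((bs X 0).quasiFiniteAt w)
  | n + 1, w => by
    haveI := lft_bs X n
    rw [← split_comp X n]
    refine (Groth.L23.FibComp.fibreDimAt_comp_le _ _ w).trans ?_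
    refine (add_le_add (Groth.L22.FibreCodim.fibreDimAt_le_zero_of_quasiFiniteAt _ w ((split X n).hom.quasiFiniteAt w)) le_rfl).trans ?_
    rw [zero_add]
    refine (Groth.L23.FibComp.fibreDimAt_comp_le _ _ _).trans ?_
    have h1 : FlatMor.fibreDimAt (pullback.fst (bs X n) (CohB1.ProjSpaceOver.toBase 1 X)) ((split X n).hom w) = (1 : ℕ) := by
      rw [Groth.L23.fibreDimAt_of_isPullback (IsPullback.of_hasPullback _ _).flip]
      exact Groth.L20.SmoothDim.main 1 _ _
    exact (add_le_add h1.le (fibreDimAt_le n _)).trans (le_of_eq (by push_cast; rw [add_comm]))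

/-- A point of codimension at least the fibre dimension, over a maximal point, is closed in its fibre. -/
theorem eq_of_specializes {P T : Scheme.{u}} (g : P ⟶ T) (w : P) (hη : IsMax' (g w)) (n : ℕ)
    (hst : (n : WithBot ℕ∞) ≤ ringKrullDim (P.presheaf.stalk w)) (hfib : ∀ p, g p = g w → FlatMor.fibreDimAt g p ≤ (n : ℕ))
    (w' : P) (hw : w ⤳ w') (hgw : g w' = g w) : w' = w := by
  by_contra hne
  obtain ⟨l, hl⟩ := Order.le_krullDim_iff.1 hst
  let A := P.presheaf.stalk w
  have hmem : ∀ q : PrimeSpectrum A, g (P.fromSpecStalk w q) = g w := fun q => by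
    refine hη _ ?_
    have := (IsLocalRing.specializes_closedPoint q).map (P.fromSpecStalk w).continuous
    rw [Scheme.fromSpecStalk_closedPoint] at this
    exact this.map g.continuous
  have hchoose : ∀ z : P, g z = g w → ∃ c : g.fiber (g w), g.fiberι (g w) c = z := fun z hz => by
    have : z ∈ Set.range (g.fiberι (g w)) := by rw [g.range_fiberι]; exact hz
    exact this
  choose pt hpt using hchoose
  have hsp : ∀ (z z' : P) (hz : g z = g w) (hz' : g z' = g w), z ⤳ z' ↔ pt z hz ⤳ pt z' hz' := fun z z' hz hz' => by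
    rw [← (g.fiberι (g w)).isEmbedding.isInducing.specializes_iff, hpt, hpt]
  let cl : ∀ z : P, g z = g w → IrreducibleCloseds (g.fiber (g w)) := fun z hz =>
    ⟨closure {pt z hz}, isIrreducible_singleton.closure, isClosed_closure⟩
  have hlt : ∀ (z z' : P) (hz : g z = g w) (hz' : g z' = g w), z ⤳ z' → z ≠ z' → cl z' hz' < cl z hz := by
    intro z z' hz hz' h hne
    have h' := (hsp z z' hz hz').1 h
    refine lt_of_le_of_ne (closure_minimal (Set.singleton_subset_iff.2 h'.mem_closure) isClosed_closure) fun e => ?_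
    have e' : closure {pt z' hz'} = closure {pt z hz} := congrArg IrreducibleCloseds.carrier e
    have h'' : pt z' hz' ⤳ pt z hz := specializes_iff_mem_closure.2 (e' ▸ subset_closure rfl)
    have := congrArg (g.fiberι (g w)) (h'.antisymm h'').eq
    rw [hpt, hpt] at this
    exact hne this
  let s : LTSeries (IrreducibleCloseds (g.fiber (g w))) :=
    LTSeries.mk l.length (fun i => cl (P.fromSpecStalk w (l i.rev)) (hmem _)) fun i j hij => by
      have hlt' : l j.rev < l i.rev := l.strictMono (Fin.rev_lt_rev.2 hij)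
      refine hlt _ _ _ _ (((PrimeSpectrum.le_iff_specializes _ _).1 hlt'.le).map (P.fromSpecStalk w).continuous) ?_
      exact fun e => hlt'.ne ((P.fromSpecStalk w).isEmbedding.injective e)
  have hs : cl w' hgw < s.head := by
    have h1 : P.fromSpecStalk w (l (Fin.rev 0)) ⤳ w := by
      have := (IsLocalRing.specializes_closedPoint (l (Fin.rev 0))).map (P.fromSpecStalk w).continuous
      rwa [Scheme.fromSpecStalk_closedPoint] at this
    refine hlt _ _ (hmem _) hgw (h1.trans hw) ?_
    intro e
    exact hne (hw.antisymm ((specializes_of_eq e.symm).trans h1)).eq.symm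
  have h3 : ((l.length + 1 : ℕ) : WithBot ℕ∞) ≤ topologicalKrullDim (g.fiber (g w)) :=
    le_trans (le_of_eq (by simp [s, RelSeries.cons, RelSeries.singleton, RelSeries.append, LTSeries.mk])) (Order.LTSeries.length_le_krullDim (s.cons (cl w' hgw) hs))
  have h4 : topologicalKrullDim (g.fiber (g w)) ≤ (n : ℕ) := (Groth.L07.FibreDim.fiber_dim_le_iff g (g w) _).2 hfib
  rw [hl] at h3
  have : n + 1 ≤ n := by exact_mod_cast h3.trans h4
  omega

theorem isFinite {W : Scheme.{u}} [IsIntegral W] [IsIntegral X] (n : ℕ) (i : W ⟶ Pw X n) [IsClosedImmersion i]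
    (hcodim : ringKrullDim ((Pw X n).presheaf.stalk (i (genericPoint W))) = n)
    (f : W ⟶ X) (hf : i ≫ bs X n = f) [IsDominant f] [Flat f] : IsFinite f ∧ Surjective f := by
  subst hf
  haveI := proper_bs X n
  haveI := lft_bs X n
  haveI : IsProper (i ≫ bs X n) := inferInstance
  haveI : LocallyOfFiniteType (i ≫ bs X n) := inferInstance
  have hη : (i ≫ bs X n) (genericPoint W) = genericPoint X := by
    refine ((genericPoint_spec W).image (i ≫ bs X n).continuous).eq ?_
    rw [Set.image_univ, (i ≫ bs X n).denseRange.closure_range]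
    exact genericPoint_spec X
  have hmax : IsMax' (genericPoint X) := fun t ht =>
    ((genericPoint_specializes t).antisymm ht).eq.symm
  have hz : ∀ v, FlatMor.fibreDimAt (i ≫ bs X n) v = (0 : ℕ) := by
    refine Groth.L22.UnivEquidim.fibreDimAt_eq _ 0 fun v hv => ?_
    have hv' : (i ≫ bs X n) v = (i ≫ bs X n) (genericPoint W) := by
      rw [hη]; exact (hv _ (genericPoint_specializes _)).symm
    have huniq : ∀ u, (i ≫ bs X n) u = (i ≫ bs X n) v → u = genericPoint W := fun u hu =>
      i.isEmbedding.injective (eq_of_specializes (bs X n) (i (genericPoint W))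
        (by rw [← Scheme.Hom.comp_apply, hη]; exact hmax) n hcodim.ge (fun p _ => fibreDimAt_le X n p) (i u)
        ((genericPoint_specializes u).map i.continuous)
        (by rw [← Scheme.Hom.comp_apply, ← Scheme.Hom.comp_apply, hu, hv']))
    refine le_antisymm ?_ ?_
    · rw [Groth.L07.FibreDim.fibreDimAt_le_iff]
      refine ⟨⊤, trivial, ?_⟩
      haveI : Subsingleton ↥(((⊤ : W.Opens) : Set W) ∩ (i ≫ bs X n) ⁻¹' {(i ≫ bs X n) v}) :=
        ⟨fun a b => Subtype.ext ((huniq _ a.2.2).trans (huniq _ b.2.2).symm)⟩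
      haveI : Subsingleton (IrreducibleCloseds ↥(((⊤ : W.Opens) : Set W) ∩ (i ≫ bs X n) ⁻¹' {(i ≫ bs X n) v})) :=
        ⟨fun A B => IrreducibleCloseds.ext ((Subsingleton.eq_univ_of_nonempty A.isIrreducible.nonempty).trans
          (Subsingleton.eq_univ_of_nonempty B.isIrreducible.nonempty).symm)⟩
      exact_mod_cast Order.krullDim_nonpos_of_subsingleton
    · show ((0 : ℕ) : WithBot ℕ∞) ≤ FlatMor.localDim ((i ≫ bs X n).fiber ((i ≫ bs X n) v)) ((i ≫ bs X n).asFiber v)
      refine le_iInf fun U => ?_
      haveI : Nonempty (IrreducibleCloseds ↥(U.1 : Set ((i ≫ bs X n).fiber ((i ≫ bs X n) v)))) :=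
        ⟨⟨closure {⟨_, U.2⟩}, isIrreducible_singleton.closure, isClosed_closure⟩⟩
      exact_mod_cast Order.krullDim_nonneg
  haveI : LocallyQuasiFinite (i ≫ bs X n) := (Scheme.Hom.quasiFiniteLocus_eq_top_iff _).1 <| top_le_iff.1 fun v _ =>
    Groth.L22.FibreCodim.quasiFiniteAt_of_fibreDimAt_le_zero _ v (by rw [hz v]; simp)
  refine ⟨IsFinite.of_isProper_of_locallyQuasiFinite _, ⟨fun x => ?_⟩⟩
  have hcl : IsClosed (Set.range (i ≫ bs X n)) := (i ≫ bs X n).isClosedMap.isClosed_range
  have := (i ≫ bs X n).denseRange x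
  rwa [hcl.closure_eq] at this

end Groth.L22.WidePow
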